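import Cfsg.Agent.Lib.Char.Zsigmondy.Cyclo

/-!
# Large primitive prime divisors
-/

set_option autoImplicit false

namespace CfsgLib.Char.Zsigmondy

/-- Base, exponent and a large primitive prime divisor. -/
def witList : List (ℕ × ℕ × ℕ) :=
  [(2, 3, 7), (3, 3, 13), (4, 3, 7), (5, 3, 31), (6, 3, 43), (4, 4, 17), (5, 4, 13),
   (6, 4, 37), (7, 4, 5), (8, 4, 13), (2, 5, 31), (3, 5, 11), (4, 6, 13), (6, 6, 31),
   (7, 6, 43), (8, 6, 19), (9, 6, 73), (10, 6, 13), (11, 6, 37), (12, 6, 19), (2, 7, 127),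
   (2, 8, 17), (3, 8, 41), (4, 8, 257), (2, 9, 73), (3, 10, 61), (4, 10, 41), (3, 12, 73),
   (4, 12, 241), (2, 14, 43), (3, 14, 547), (2, 15, 151), (2, 16, 257), (3, 18, 37), (2, 20, 41),
   (2, 22, 683), (2, 24, 241), (2, 30, 331), (2, 36, 109), (2, 42, 5419)]

/-- The values of the totient. -/
def totTab : List ℕ :=
  [0, 1, 1, 2, 2, 4, 2, 6, 4, 6, 4, 10, 4, 12, 6, 8, 8, 16, 6, 18,
   8, 12, 10, 22, 8, 20, 12, 18, 12, 28, 8, 30, 16, 20, 16, 24, 12, 36, 18, 24,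
   16, 40, 12, 42, 20, 24, 22, 46, 16, 42, 20, 32, 24, 52, 18, 40, 24, 36, 28, 58,
   16, 60, 30, 36, 32, 48, 20, 66, 32, 44, 24, 70, 24, 72, 36, 40, 36, 60, 24, 78,
   32, 54, 40, 82, 24, 64, 42, 56, 40, 88, 24, 72, 44, 60, 46, 72, 32, 96]

/-- Primality by trial division. -/
def trialPrime (p : ℕ) : Bool := decide (2 ≤ p) && (List.range p).all fun d => decide (d < 2) || !(p % d == 0)

theorem prime_of_trialPrime {p : ℕ} (h : trialPrime p = true) : p.Prime := by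
  simp only [trialPrime, Bool.and_eq_true, decide_eq_true_eq, List.all_eq_true, List.mem_range, Bool.or_eq_true,
    Bool.not_eq_true', beq_eq_false_iff_ne] at h
  refine Nat.prime_def_lt.2 ⟨h.1, fun d hd hdvd => ?_⟩
  have hd0 : d ≠ 0 := fun h0 => by rw [h0] at hdvd; have := zero_dvd_iff.1 hdvd; omega
  rcases h.2 d hd with h' | h'
  · omega
  · exact absurd (Nat.mod_eq_zero_of_dvd hdvd) h'

/-- A good primitive prime divisor. -/
def Large (q n p : ℕ) : Prop := Prim q n p ∧ (n + 1 < p ∨ p ^ 2 ∣ q ^ n - 1)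

/-- The check of a witness. -/
def largeCheck (w : ℕ × ℕ × ℕ) : Bool :=
  trialPrime w.2.2 && ((w.1 ^ w.2.1 - 1) % w.2.2 == 0) &&
    (List.range w.2.1).all (fun i => decide (i < 1) || !((w.1 ^ i - 1) % w.2.2 == 0)) &&
    (decide (w.2.1 + 1 < w.2.2) || ((w.1 ^ w.2.1 - 1) % w.2.2 ^ 2 == 0))

theorem witList_check : witList.all largeCheck = true := by decide +kernel

theorem large_of_check {q n p : ℕ} (h : (q, n, p) ∈ witList) : Large q n p := by
  have hc := List.all_eq_true.1 witList_check _ h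
  simp only [largeCheck, Bool.and_eq_true, beq_iff_eq, List.all_eq_true, List.mem_range, Bool.or_eq_true,
    decide_eq_true_eq, Bool.not_eq_true', beq_eq_false_iff_ne] at hc
  obtain ⟨⟨⟨h1, h2⟩, h3⟩, h4⟩ := hc
  refine ⟨⟨prime_of_trialPrime h1, Nat.dvd_of_mod_eq_zero h2, fun i hi hin hd => ?_⟩,
    h4.imp id Nat.dvd_of_mod_eq_zero⟩
  rcases h3 i hin with h' | h'
  · omega
  · exact h' (Nat.mod_eq_zero_of_dvd hd)

theorem totTab_check : ∀ n < 98, Nat.totient n = totTab.getD n 0 := by decide +kernel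

/-- The exceptional pairs. -/
def exceptional : List (ℕ × ℕ) := [(2, 4), (3, 4), (2, 6), (3, 6), (5, 6), (2, 10), (2, 12), (2, 18)]

theorem small_check : ((List.range 98).all fun n => (List.range 200).all fun q =>
    decide (n < 3) || decide (q < 2) || decide (4 * (n * (n + 1)) < q ^ totTab.getD n 0) ||
      exceptional.contains (q, n) || (witList.map fun w => (w.1, w.2.1)).contains (q, n)) = true := by
  decide +kernel

theorem two_le_totient_small : ∀ n < 98, 3 ≤ n → 2 ≤ totTab.getD n 0 := by decide +kernel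

theorem cube_le_totient (n : ℕ) (hn : 0 < n) :
    n ^ 3 * (if 3 ∣ n then 16 else 1) ≤
      n.totient ^ 4 * ((if 2 ∣ n then 8 else 1) * (if 3 ∣ n then 27 else 1)) := by
  induction n using Nat.recOnPosPrimePosCoprime with
  | zero => omega
  | one => simp
  | prime_pow p e hp he =>
    obtain ⟨j, rfl⟩ := Nat.exists_eq_succ_of_ne_zero he.ne'
    have hdvd : ∀ r : ℕ, r.Prime → (r ∣ p ^ (j + 1) ↔ r = p) := fun r hr =>
      ⟨fun h => (Nat.prime_dvd_prime_iff_eq hr hp).1 (hr.dvd_of_dvd_pow h), fun h => h ▸ dvd_pow_self _ (by omega)⟩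
    simp only [Nat.succ_eq_add_one, hdvd 2 Nat.prime_two, hdvd 3 Nat.prime_three]
    rw [Nat.totient_prime_pow_succ hp]
    have hb : p ^ 3 * (if 3 = p then 16 else 1) ≤ (p - 1) ^ 4 * ((if 2 = p then 8 else 1) * (if 3 = p then 27 else 1)) := by
      rcases (show p = 2 ∨ p = 3 ∨ p = 4 ∨ 5 ≤ p by have := hp.two_le; omega) with rfl | rfl | rfl | h5
      · norm_num
      · norm_num
      · norm_num at hp
      · rw [if_neg (by omega), if_neg (by omega), if_neg (by omega), mul_one, mul_one, mul_one]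
        obtain ⟨k, rfl⟩ : ∃ k, p = k + 5 := ⟨p - 5, by omega⟩
        rw [show k + 5 - 1 = k + 4 from rfl]
        ring_nf
        nlinarith [Nat.zero_le (k ^ 4), Nat.zero_le (k ^ 3), Nat.zero_le (k ^ 2)]
    have hpj : (p ^ j) ^ 3 ≤ (p ^ j) ^ 4 := Nat.pow_le_pow_right (pow_pos hp.pos j) (by norm_num)
    calc (p ^ (j + 1)) ^ 3 * (if 3 = p then 16 else 1) = (p ^ j) ^ 3 * (p ^ 3 * (if 3 = p then 16 else 1)) := by ring
      _ ≤ (p ^ j) ^ 4 * ((p - 1) ^ 4 * ((if 2 = p then 8 else 1) * (if 3 = p then 27 else 1))) :=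
          Nat.mul_le_mul hpj hb
      _ = _ := by ring
  | coprime a b ha hb hab iha ihb =>
    specialize iha (by omega)
    specialize ihb (by omega)
    have key : ∀ (r c : ℕ), r.Prime → (if r ∣ a * b then c else 1) = (if r ∣ a then c else 1) * (if r ∣ b then c else 1) := by
      intro r c hr
      have hnot : ¬ (r ∣ a ∧ r ∣ b) := fun h => hr.ne_one (Nat.dvd_one.1 (hab ▸ Nat.dvd_gcd h.1 h.2))
      by_cases h1 : r ∣ a <;> by_cases h2 : r ∣ b <;> simp_all [hr.dvd_mul]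
    rw [key 2 8 Nat.prime_two, key 3 16 Nat.prime_three, key 3 27 Nat.prime_three, Nat.totient_mul hab]
    calc (a * b) ^ 3 * ((if 3 ∣ a then 16 else 1) * (if 3 ∣ b then 16 else 1))
        = (a ^ 3 * (if 3 ∣ a then 16 else 1)) * (b ^ 3 * (if 3 ∣ b then 16 else 1)) := by ring
      _ ≤ _ := Nat.mul_le_mul iha ihb
      _ = _ := by ring

theorem cube_le (n : ℕ) (hn : 0 < n) : n ^ 3 ≤ 14 * n.totient ^ 4 := by
  have h := cube_le_totient n hn
  split_ifs at h <;> omega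

theorem eight_pow_lt (k : ℕ) (hk : 17 ≤ k) : 100352 * k ^ 8 < 8 ^ k := by
  induction k, hk using Nat.le_induction with
  | base => norm_num
  | succ k hk ih =>
    have h1 : (4 * (k + 1)) ^ 8 ≤ (5 * k) ^ 8 := Nat.pow_le_pow_left (by omega) 8
    rw [mul_pow, mul_pow] at h1
    norm_num at h1
    rw [pow_succ 8 k]
    omega

theorem exists_large_or (q n : ℕ) (hq : 2 ≤ q) (hn : 3 ≤ n) :
    (∃ p, Large q n p) ∨ (q, n) ∈ exceptional := by
  by_cases hex : ∃ p, Large q n p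
  · exact Or.inl hex
  right
  have hprim : ∀ p, Prim q n p → p = n + 1 ∧ ¬ p ^ 2 ∣ q ^ n - 1 := by
    intro p hp
    have h1 := prim_dvd_pred hq (by omega) hp
    have h2 : ¬ (n + 1 < p ∨ p ^ 2 ∣ q ^ n - 1) := fun h => hex ⟨p, hp, h⟩
    push Not at h2
    have h3 : n ≤ p - 1 := Nat.le_of_dvd (by have := hp.1.two_le; omega) h1
    exact ⟨by omega, h2.2⟩
  have hcdvd : cyc n q ∣ (n + 1) * n := by
    have hne := cyc_ne_zero n q hq
    have hsqf : Squarefree (cyc n q) := by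
      rw [Nat.squarefree_iff_prime_squarefree]
      intro p hp hpd
      rw [← pow_two] at hpd
      rcases prime_dvd_cyc hq (by omega) hp (Dvd.dvd.trans (dvd_pow_self p two_ne_zero) hpd) with h | ⟨h1, h2, h3⟩
      · exact (hprim p h).2 (hpd.trans (cyc_dvd_pow_sub_one n q hq (by omega)))
      · exact sq_not_dvd_cyc hq hn hp h1 h2 h3 hpd
    rw [← Nat.prod_primeFactors_of_squarefree hsqf]
    refine Finset.prod_primes_dvd _ (fun p hp => (Nat.prime_of_mem_primeFactors hp).prime) fun p hp => ?_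
    rcases prime_dvd_cyc hq (by omega) (Nat.prime_of_mem_primeFactors hp) (Nat.dvd_of_mem_primeFactors hp) with
      h | ⟨h1, -, -⟩
    · exact dvd_mul_of_dvd_left (dvd_of_eq (hprim p h).1) _
    · exact dvd_mul_of_dvd_right h1 _
  have hbound : q ^ n.totient ≤ 4 * (n * (n + 1)) := by
    refine (totient_pow_le q n hq (by omega)).trans (Nat.mul_le_mul_left 4 ?_)
    rw [mul_comm n]
    exact Nat.le_of_dvd (Nat.mul_pos (by omega) (by omega)) hcdvd
  have hcube := cube_le n (by omega)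
  have hk16 : n.totient ≤ 16 := by
    by_contra hk
    have h8 := eight_pow_lt n.totient (by omega)
    have h1 : 2 ^ n.totient ≤ 8 * (n * n) := by
      refine ((Nat.pow_le_pow_left hq _).trans hbound).trans ?_
      nlinarith
    have h2 : (2 ^ n.totient) ^ 3 ≤ (8 * (n * n)) ^ 3 := Nat.pow_le_pow_left h1 3
    rw [← pow_mul, mul_comm n.totient 3, pow_mul, show (2 : ℕ) ^ 3 = 8 by norm_num,
      show (8 * (n * n)) ^ 3 = 512 * (n ^ 3) ^ 2 by ring] at h2
    have h3 : (n ^ 3) ^ 2 ≤ (14 * n.totient ^ 4) ^ 2 := Nat.pow_le_pow_left hcube 2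
    rw [show (14 * n.totient ^ 4) ^ 2 = 196 * n.totient ^ 8 by ring] at h3
    omega
  have hn98 : n < 98 := by
    by_contra h
    have h1 : n.totient ^ 4 ≤ 16 ^ 4 := Nat.pow_le_pow_left hk16 4
    have h2 : 98 ^ 3 ≤ n ^ 3 := Nat.pow_le_pow_left (by omega) 3
    norm_num at h1 h2
    omega
  rw [totTab_check n hn98] at hbound
  have hq200 : q < 200 := by
    by_contra h
    have h1 : q ^ 2 ≤ q ^ totTab.getD n 0 := Nat.pow_le_pow_right (by omega) (two_le_totient_small n hn98 hn)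
    have h2 : 200 ^ 2 ≤ q ^ 2 := Nat.pow_le_pow_left (by omega) 2
    have h3 : n * (n + 1) ≤ 97 * 98 := Nat.mul_le_mul (by omega) (by omega)
    norm_num at h2 h3
    omega
  have h := List.all_eq_true.1 (List.all_eq_true.1 small_check n (List.mem_range.2 hn98)) q (List.mem_range.2 hq200)
  simp only [Bool.or_eq_true, decide_eq_true_eq, List.contains_iff_mem, List.mem_map] at h
  rcases h with ((((h | h) | h) | h) | ⟨w, hw, he⟩)
  · omega
  · omega
  · omega
  · exact h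
  · obtain ⟨a, b, p⟩ := w
    cases he
    exact absurd ⟨p, large_of_check hw⟩ hex

theorem exists_large_two (q : ℕ) (hq : 2 ≤ q) (h : ¬ ∃ s t : ℕ, t ≤ 1 ∧ q + 1 = 2 ^ s * 3 ^ t) :
    ∃ p, Large q 2 p := by
  by_contra hex
  obtain ⟨s, m, hm, he⟩ : ∃ s m, ¬ 2 ∣ m ∧ q + 1 = 2 ^ s * m :=
    ⟨(q + 1).factorization 2, (q + 1) / 2 ^ (q + 1).factorization 2, Nat.not_dvd_ordCompl Nat.prime_two (by omega),
      (Nat.ordProj_mul_ordCompl_eq_self (q + 1) 2).symm⟩
  have hfac : q ^ 2 - 1 = (q + 1) * (q - 1) := by rw [← Nat.sq_sub_sq, one_pow]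
  have key : ∀ p, p.Prime → p ∣ m → p = 3 ∧ ¬ 3 ^ 2 ∣ m := by
    intro p hp hpm
    have hp1 : p ∣ q + 1 := he ▸ dvd_mul_of_dvd_right hpm _
    have hp2 : p ≠ 2 := fun h2 => hm (h2 ▸ hpm)
    have h1 : Prim q 2 p := ⟨hp, hfac ▸ dvd_mul_of_dvd_left hp1 _, fun i hi hi2 hd => by
      obtain rfl : i = 1 := by omega
      rw [pow_one] at hd
      have h2 := Nat.dvd_sub hp1 hd
      rw [show q + 1 - (q - 1) = 2 by omega] at h2
      exact hp2 ((Nat.prime_dvd_prime_iff_eq hp Nat.prime_two).1 h2)⟩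
    have h3 : ¬ (2 + 1 < p ∨ p ^ 2 ∣ q ^ 2 - 1) := fun h' => hex ⟨p, h1, h'⟩
    push Not at h3
    have hp3 : p = 3 := by have := hp.two_le; omega
    refine ⟨hp3, fun h9 => h3.2 ?_⟩
    rw [hfac, hp3]
    exact dvd_mul_of_dvd_left (he ▸ dvd_mul_of_dvd_right h9 _) _
  by_cases hm1 : m = 1
  · exact h ⟨s, 0, by omega, by rw [he, hm1]; norm_num⟩
  · obtain ⟨h3, h9⟩ := key _ (Nat.minFac_prime hm1) m.minFac_dvd
    obtain ⟨c, hc⟩ : 3 ∣ m := h3 ▸ m.minFac_dvd
    by_cases hc1 : c = 1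
    · exact h ⟨s, 1, le_refl 1, by rw [he, hc, hc1]; norm_num⟩
    · have := (key _ (Nat.minFac_prime hc1) (hc ▸ dvd_mul_of_dvd_right c.minFac_dvd 3)).1
      refine h9 ?_
      rw [hc, pow_two]
      exact mul_dvd_mul_left 3 (this ▸ c.minFac_dvd)

/-- The primitive prime divisors of the exceptional pairs. -/
theorem exceptional_prim : ∀ w ∈ exceptional, w ≠ (2, 6) → ∃ p ∈ [5, 7, 11, 13, 19],
    trialPrime p = true ∧ (w.1 ^ w.2 - 1) % p = 0 ∧ ∀ i < w.2, 1 ≤ i → (w.1 ^ i - 1) % p ≠ 0 := by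
  decide +kernel

/-- Zsigmondy's theorem. -/
theorem exists_prim (a n : ℕ) (ha : 1 < a) (hn : 1 < n) (h6 : ¬ (a = 2 ∧ n = 6))
    (h2 : ¬ (n = 2 ∧ ∃ m : ℕ, a + 1 = 2 ^ m)) : ∃ p, Prim a n p := by
  rcases Nat.lt_or_ge n 3 with h | h
  · obtain rfl : n = 2 := by omega
    obtain ⟨s, m, hm, he⟩ : ∃ s m, ¬ 2 ∣ m ∧ a + 1 = 2 ^ s * m :=
      ⟨(a + 1).factorization 2, (a + 1) / 2 ^ (a + 1).factorization 2, Nat.not_dvd_ordCompl Nat.prime_two (by omega),
        (Nat.ordProj_mul_ordCompl_eq_self (a + 1) 2).symm⟩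
    by_cases hm1 : m = 1
    · exact absurd ⟨rfl, s, by rw [he, hm1, mul_one]⟩ h2
    have hp := Nat.minFac_prime hm1
    have hp1 : m.minFac ∣ a + 1 := he ▸ dvd_mul_of_dvd_right m.minFac_dvd _
    refine ⟨m.minFac, hp, ?_, fun i hi hi2 hd => ?_⟩
    · rw [show a ^ 2 - 1 = (a + 1) * (a - 1) by rw [← Nat.sq_sub_sq, one_pow]]
      exact dvd_mul_of_dvd_left hp1 _
    · obtain rfl : i = 1 := by omega
      rw [pow_one] at hd
      have h2' := Nat.dvd_sub hp1 hd
      rw [show a + 1 - (a - 1) = 2 by omega] at h2'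
      have := (Nat.prime_dvd_prime_iff_eq hp Nat.prime_two).1 h2'
      exact hm (this ▸ m.minFac_dvd)
  · rcases exists_large_or a n ha h with ⟨p, hp, -⟩ | he
    · exact ⟨p, hp⟩
    · obtain ⟨p, -, h1, h2', h3⟩ := exceptional_prim (a, n) he (fun e => h6 ⟨congrArg Prod.fst e, congrArg Prod.snd e⟩)
      exact ⟨p, prime_of_trialPrime h1, Nat.dvd_of_mod_eq_zero h2', fun i hi hin hd =>
        h3 i hin hi (Nat.mod_eq_zero_of_dvd hd)⟩

end CfsgLib.Char.Zsigmondy
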