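import Mathlib

/-!
# Values of cyclotomic polynomials at natural numbers
-/

set_option autoImplicit false

namespace CfsgLib.Char.Zsigmondy

open Polynomial Finset ArithmeticFunction

theorem partial_prod_ge (m : ℕ) :
    (1 / 4 : ℚ) + (1 / 2) ^ (m + 2) ≤ ∏ b ∈ range (m + 1), (1 - (1 / 2 : ℚ) ^ (b + 1)) := by
  induction m with
  | zero => norm_num
  | succ m ih =>
    rw [prod_range_succ]
    have hu : (1 / 2 : ℚ) ^ (m + 2) ≤ 1 / 4 := by
      calc (1 / 2 : ℚ) ^ (m + 2) ≤ (1 / 2) ^ 2 := pow_le_pow_of_le_one (by norm_num) (by norm_num) (by omega)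
        _ = 1 / 4 := by norm_num
    have h0 : (0 : ℚ) ≤ (1 / 2) ^ (m + 2) := by positivity
    have h1 : (0 : ℚ) ≤ 1 - (1 / 2) ^ (m + 1 + 1) := by
      rw [show m + 1 + 1 = m + 2 from rfl]; linarith
    refine le_trans ?_ (mul_le_mul_of_nonneg_right ih h1)
    rw [show m + 1 + 2 = (m + 2) + 1 from rfl, pow_succ, show m + 1 + 1 = m + 2 from rfl]
    nlinarith

theorem divisors_prod_ge (q n : ℕ) (hq : 2 ≤ q) :
    (1 / 4 : ℚ) ≤ ∏ b ∈ n.divisors, (1 - ((q : ℚ) ^ b)⁻¹) := by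
  classical
  have hq' : (2 : ℚ) ≤ q := by exact_mod_cast hq
  have hstep : ∀ b ∈ n.divisors, (1 - (1 / 2 : ℚ) ^ b) ≤ 1 - ((q : ℚ) ^ b)⁻¹ := by
    intro b _
    rw [one_div, inv_pow]
    have : ((q : ℚ) ^ b)⁻¹ ≤ ((2 : ℚ) ^ b)⁻¹ := inv_anti₀ (by positivity) (pow_le_pow_left₀ (by norm_num) hq' b)
    linarith
  have hnn : ∀ b : ℕ, (0 : ℚ) ≤ 1 - (1 / 2 : ℚ) ^ b := fun b => by
    have : (1 / 2 : ℚ) ^ b ≤ 1 := pow_le_one₀ (by norm_num) (by norm_num)
    linarith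
  refine le_trans ?_ (prod_le_prod (fun b _ => hnn b) hstep)
  have hsub : n.divisors ⊆ (range (n + 1)).map ⟨fun b => b + 1, fun a b h => Nat.succ_injective h⟩ := by
    intro b hb
    have h1 := Nat.pos_of_mem_divisors hb
    have h2 := Nat.divisor_le hb
    exact mem_map.2 ⟨b - 1, mem_range.2 (by omega), by show b - 1 + 1 = b; omega⟩
  rw [← mul_one (1 / 4 : ℚ)]
  have h := partial_prod_ge n
  have e := prod_map (range (n + 1)) ⟨fun b => b + 1, fun a b h => Nat.succ_injective h⟩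
    (fun b => 1 - (1 / 2 : ℚ) ^ b)
  replace e : _ = ∏ b ∈ range (n + 1), (1 - (1 / 2 : ℚ) ^ (b + 1)) := e
  rw [← e, ← prod_sdiff hsub] at h
  have h2 : ∏ b ∈ (range (n + 1)).map ⟨fun b => b + 1, fun a b h => Nat.succ_injective h⟩ \ n.divisors,
      (1 - (1 / 2 : ℚ) ^ b) ≤ 1 := prod_le_one (fun b _ => hnn b) fun b _ => by
    have : (0 : ℚ) ≤ (1 / 2) ^ b := by positivity
    linarith
  have h3 : (0 : ℚ) ≤ ∏ b ∈ n.divisors, (1 - (1 / 2 : ℚ) ^ b) := prod_nonneg fun b _ => hnn b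
  have h4 := mul_le_mul_of_nonneg_right h2 h3
  have h5 : (0 : ℚ) ≤ (1 / 2) ^ (n + 2) := by positivity
  linarith

theorem le_four_mul_eval (q n : ℕ) (hq : 2 ≤ q) (hn : 0 < n) :
    (q : ℚ) ^ n.totient ≤ 4 * (cyclotomic n ℚ).eval (q : ℚ) := by
  have hq' : (1 : ℚ) < q := by exact_mod_cast hq
  have hg : ∀ d : ℕ, 0 < d → (q : ℚ) ^ d - 1 ≠ 0 := fun d hd =>
    (sub_pos.2 (one_lt_pow₀ hq' hd.ne')).ne'
  have hmob := (prod_eq_iff_prod_pow_moebius_eq_of_nonzero (f := fun d => (cyclotomic d ℚ).eval (q : ℚ))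
    (g := fun d => (q : ℚ) ^ d - 1) (fun d _ => (cyclotomic_pos' d hq').ne') hg).1 (fun d hd => by
      rw [← eval_prod, prod_cyclotomic_eq_X_pow_sub_one hd ℚ]; simp) n hn
  have hphi : ∑ x ∈ n.divisorsAntidiagonal, (ArithmeticFunction.moebius x.1 : ℤ) * (x.2 : ℤ) = (n.totient : ℤ) := by
    have h := (sum_eq_iff_sum_mul_moebius_eq (R := ℤ) (f := fun d => (d.totient : ℤ)) (g := fun d => (d : ℤ))).1
      (fun d _ => by exact_mod_cast Nat.sum_totient d) n hn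
    simpa using h
  have hq0 : (q : ℚ) ≠ 0 := by positivity
  have hfac : ∀ x : ℕ × ℕ, ((q : ℚ) ^ x.2 - 1) ^ ArithmeticFunction.moebius x.1 =
      (q : ℚ) ^ ((ArithmeticFunction.moebius x.1 : ℤ) * (x.2 : ℤ)) *
        (1 - ((q : ℚ) ^ x.2)⁻¹) ^ ArithmeticFunction.moebius x.1 := by
    intro x
    rw [mul_comm (ArithmeticFunction.moebius x.1 : ℤ), zpow_mul, zpow_natCast, ← mul_zpow, mul_sub, mul_one,
      mul_inv_cancel₀ (pow_ne_zero _ hq0)]
  rw [← hmob, prod_congr rfl (fun x _ => hfac x), prod_mul_distrib]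
  have e1 : ∏ x ∈ n.divisorsAntidiagonal, (q : ℚ) ^ ((ArithmeticFunction.moebius x.1 : ℤ) * (x.2 : ℤ)) =
      (q : ℚ) ^ n.totient := by
    rw [← zpow_natCast (q : ℚ) n.totient, ← hphi]
    induction n.divisorsAntidiagonal using Finset.induction_on with
    | empty => simp
    | insert a s ha ih => rw [prod_insert ha, sum_insert ha, zpow_add₀ hq0, ih]
  rw [e1]
  have hpow : (0 : ℚ) ≤ (q : ℚ) ^ n.totient := by positivity
  have key : (1 / 4 : ℚ) ≤
      ∏ x ∈ n.divisorsAntidiagonal, (1 - ((q : ℚ) ^ x.2)⁻¹) ^ ArithmeticFunction.moebius x.1 := by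
    refine le_trans (divisors_prod_ge q n hq) ?_
    rw [Nat.prod_divisorsAntidiagonal'
      (fun a b => (1 - ((q : ℚ) ^ b)⁻¹) ^ ArithmeticFunction.moebius a)]
    refine prod_le_prod (fun b hb => ?_) fun b hb => ?_
    · have : ((q : ℚ) ^ b)⁻¹ ≤ 1 := inv_le_one_of_one_le₀ (one_le_pow₀ hq'.le)
      linarith
    · have h1 : (0 : ℚ) < ((q : ℚ) ^ b)⁻¹ := by positivity
      have h2 : ((q : ℚ) ^ b)⁻¹ < 1 := inv_lt_one_of_one_lt₀
        (one_lt_pow₀ hq' (Nat.pos_of_mem_divisors hb).ne')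
      have hx0 : (0 : ℚ) < 1 - ((q : ℚ) ^ b)⁻¹ := by linarith
      have hx1 : 1 - ((q : ℚ) ^ b)⁻¹ ≤ 1 := by linarith
      rcases ArithmeticFunction.moebius_eq_or (n / b) with h | h | h <;> rw [h]
      · rw [zpow_zero]; exact hx1
      · rw [zpow_one]
      · rw [zpow_neg_one]; exact le_trans hx1 ((one_le_inv₀ hx0).2 hx1)
  nlinarith

/-- The value of the cyclotomic polynomial. -/
noncomputable def cyc (n q : ℕ) : ℕ := ((cyclotomic n ℤ).eval (q : ℤ)).natAbs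

theorem cast_cyc (n q : ℕ) (hq : 2 ≤ q) : (cyc n q : ℤ) = (cyclotomic n ℤ).eval (q : ℤ) :=
  Int.natAbs_of_nonneg (cyclotomic_pos' n (by exact_mod_cast hq)).le

theorem totient_pow_le (q n : ℕ) (hq : 2 ≤ q) (hn : 0 < n) : q ^ n.totient ≤ 4 * cyc n q := by
  have h := le_four_mul_eval q n hq hn
  have e : (cyclotomic n ℚ).eval (q : ℚ) = ((cyc n q : ℤ) : ℚ) := by
    rw [cast_cyc n q hq, ← map_cyclotomic_int n ℚ, eval_map, show (q : ℚ) = (Int.castRingHom ℚ) (q : ℤ) by simp,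
      eval₂_hom]
    simp
  rw [e] at h
  exact_mod_cast h

theorem cyc_ne_zero (n q : ℕ) (hq : 2 ≤ q) : cyc n q ≠ 0 := by
  have h : (0 : ℤ) < (cyc n q : ℤ) := cast_cyc n q hq ▸ cyclotomic_pos' n (by exact_mod_cast hq)
  omega

theorem cast_pow_sub_one (q i : ℕ) (hq : 1 ≤ q) : ((q ^ i - 1 : ℕ) : ℤ) = (q : ℤ) ^ i - 1 := by
  rw [Nat.cast_sub (Nat.one_le_pow _ _ hq)]; simp

theorem cyc_dvd_pow_sub_one (n q : ℕ) (hq : 2 ≤ q) (hn : 0 < n) : cyc n q ∣ q ^ n - 1 := by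
  have h := eval_dvd (x := (q : ℤ)) (cyclotomic.dvd_X_pow_sub_one n ℤ)
  rw [← Int.natCast_dvd_natCast, cast_cyc n q hq, cast_pow_sub_one q n (by omega)]
  simpa using h

theorem cyc_mul_dvd (n q d : ℕ) (hq : 2 ≤ q) (hd : d ∈ n.properDivisors) :
    (q ^ d - 1) * cyc n q ∣ q ^ n - 1 := by
  have h := eval_dvd (x := (q : ℤ)) (X_pow_sub_one_mul_cyclotomic_dvd_X_pow_sub_one_of_dvd ℤ hd)
  rw [← Int.natCast_dvd_natCast, Nat.cast_mul, cast_cyc n q hq, cast_pow_sub_one q n (by omega),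
    cast_pow_sub_one q d (by omega)]
  simpa using h

/-- A prime dividing `q ^ n - 1` but no earlier `q ^ i - 1`. -/
def Prim (q n p : ℕ) : Prop := p.Prime ∧ p ∣ q ^ n - 1 ∧ ∀ i, 1 ≤ i → i < n → ¬ p ∣ q ^ i - 1

theorem dvd_pow_sub_one_iff {p q i : ℕ} (hq : 1 ≤ q) : p ∣ q ^ i - 1 ↔ (q : ZMod p) ^ i = 1 := by
  rw [← ZMod.natCast_eq_zero_iff, Nat.cast_sub (Nat.one_le_pow _ _ hq), sub_eq_zero]
  simp

theorem prim_dvd_pred {q n p : ℕ} (hq : 2 ≤ q) (hn : 0 < n) (h : Prim q n p) : n ∣ p - 1 := by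
  obtain ⟨hp, hd, hmin⟩ := h
  haveI := Fact.mk hp
  have h1 := (dvd_pow_sub_one_iff (by omega)).1 hd
  have hne : (q : ZMod p) ≠ 0 := fun h0 => by
    rw [h0, zero_pow hn.ne'] at h1
    exact zero_ne_one h1
  have ho : orderOf (q : ZMod p) = n := (orderOf_eq_iff hn).2 ⟨h1, fun i hi hi0 e =>
    hmin i hi0 hi ((dvd_pow_sub_one_iff (by omega)).2 e)⟩
  rw [← ho]
  exact ZMod.orderOf_dvd_card_sub_one hne

theorem prime_dvd_cyc {q n p : ℕ} (hq : 2 ≤ q) (hn : 0 < n) (hp : p.Prime) (hd : p ∣ cyc n q) :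
    Prim q n p ∨ (p ∣ n ∧ (∀ r : ℕ, r.Prime → r ∣ n → r ≤ p) ∧ (q : ZMod p) ^ (n / p) = 1) := by
  haveI := Fact.mk hp
  have hroot : (cyclotomic n (ZMod p)).IsRoot (q : ZMod p) := by
    rw [IsRoot.def, ← map_cyclotomic_int n (ZMod p), eval_map,
      show (q : ZMod p) = (Int.castRingHom (ZMod p)) (q : ℤ) by simp, eval₂_hom, ← cast_cyc n q hq]
    simpa [ZMod.natCast_eq_zero_iff] using hd
  by_cases hpn : p ∣ n
  · right
    obtain ⟨k, m, hpm, rfl⟩ : ∃ k m, ¬ p ∣ m ∧ n = p ^ k * m :=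
      ⟨n.factorization p, n / p ^ n.factorization p, Nat.not_dvd_ordCompl hp hn.ne',
        (Nat.ordProj_mul_ordCompl_eq_self n p).symm⟩
    have hm : 0 < m := Nat.pos_of_ne_zero fun h => by simp [h] at hn
    haveI : NeZero ((m : ℕ) : ZMod p) := ⟨fun h => hpm ((ZMod.natCast_eq_zero_iff m p).1 h)⟩
    have hprim : IsPrimitiveRoot (q : ZMod p) m :=
      (isRoot_cyclotomic_prime_pow_mul_iff_of_charP (p := p) (k := k) (m := m)).1 hroot
    have hk : k ≠ 0 := by rintro rfl; simp at hpn; exact hpm hpn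
    refine ⟨hpn, fun r hr hrn => ?_, ?_⟩
    · rcases hr.dvd_mul.1 hrn with h | h
      · exact ((Nat.prime_dvd_prime_iff_eq hr hp).1 (hr.dvd_of_dvd_pow h)).le
      · have hne : (q : ZMod p) ≠ 0 := hprim.ne_zero hm.ne'
        have h1 : m ∣ p - 1 := hprim.eq_orderOf ▸ ZMod.orderOf_dvd_card_sub_one hne
        have h2 := Nat.le_of_dvd (by have := hp.two_le; omega) (h.trans h1)
        omega
    · obtain ⟨j, rfl⟩ := Nat.exists_eq_succ_of_ne_zero hk
      rw [show p ^ (j + 1) * m / p = m * p ^ j by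
        rw [pow_succ, show p ^ j * p * m = (m * p ^ j) * p by ring, Nat.mul_div_cancel _ hp.pos],
        pow_mul, hprim.pow_eq_one, one_pow]
  · left
    haveI : NeZero ((n : ℕ) : ZMod p) := ⟨fun h => hpn ((ZMod.natCast_eq_zero_iff n p).1 h)⟩
    have hprim : IsPrimitiveRoot (q : ZMod p) n := isRoot_cyclotomic_iff.1 hroot
    exact ⟨hp, (dvd_pow_sub_one_iff (by omega)).2 hprim.pow_eq_one, fun i hi hin h =>
      hprim.pow_ne_one_of_pos_of_lt (by omega) hin ((dvd_pow_sub_one_iff (by omega)).1 h)⟩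

theorem sq_not_dvd_cyc {q n p : ℕ} (hq : 2 ≤ q) (hn : 3 ≤ n) (hp : p.Prime) (hpn : p ∣ n)
    (hall : ∀ r : ℕ, r.Prime → r ∣ n → r ≤ p) (hroot : (q : ZMod p) ^ (n / p) = 1) :
    ¬ p ^ 2 ∣ cyc n q := by
  intro hsq
  obtain ⟨d, rfl⟩ := hpn
  rw [Nat.mul_div_cancel_left _ hp.pos] at hroot
  have hd0 : 0 < d := Nat.pos_of_ne_zero fun h => by simp [h] at hn
  have hdp : d < p * d := lt_mul_of_one_lt_left hd0 hp.one_lt
  have h := cyc_mul_dvd (p * d) q d hq (Nat.mem_properDivisors.2 ⟨dvd_mul_left d p, hdp⟩)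
  rw [← Int.natCast_dvd_natCast, Nat.cast_mul, cast_pow_sub_one q _ (by omega), cast_pow_sub_one q _ (by omega),
    pow_mul' (q : ℤ) p d, ← geom_sum_mul ((q : ℤ) ^ d) p] at h
  set y := (q : ℤ) ^ d with hy
  have hy1 : y - 1 ≠ 0 := (sub_pos.2 (one_lt_pow₀ (by exact_mod_cast hq) hd0.ne')).ne'
  rw [mul_comm (∑ i ∈ range p, y ^ i) (y - 1)] at h
  have hS : ((p ^ 2 : ℕ) : ℤ) ∣ ∑ i ∈ range p, y ^ i :=
    (Int.natCast_dvd_natCast.2 hsq).trans ((mul_dvd_mul_iff_left hy1).1 h)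
  push_cast at hS
  have hpy : (p : ℤ) ∣ y - 1 := by
    rw [← ZMod.intCast_zmod_eq_zero_iff_dvd]
    simp [hy, hroot]
  have hlin : ∀ i : ℕ, (p : ℤ) ^ 2 ∣ y ^ i - 1 - (i : ℤ) * (y - 1) := by
    intro i
    induction i with
    | zero => simp
    | succ i ih =>
      rw [show y ^ (i + 1) - 1 - ((i + 1 : ℕ) : ℤ) * (y - 1) =
        y * (y ^ i - 1 - (i : ℤ) * (y - 1)) + (i : ℤ) * (y - 1) ^ 2 by push_cast; ring]
      exact dvd_add (Dvd.dvd.mul_left ih y) (Dvd.dvd.mul_left (pow_dvd_pow_of_dvd hpy 2) _)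
  have hsum : (p : ℤ) ^ 2 ∣ ∑ i ∈ range p, (y ^ i - 1 - (i : ℤ) * (y - 1)) := dvd_sum fun i _ => hlin i
  have hrest : (p : ℤ) ^ 2 ∣ (∑ i ∈ range p, (i : ℤ)) * (y - 1) := by
    rcases hp.eq_two_or_odd with rfl | hodd
    · -- every prime divisor of the exponent is two, so the base is a square
      have hd2 : ∃ e, d = 2 * e := by
        rcases Nat.even_or_odd' d with ⟨e, he | he⟩
        · exact ⟨e, he⟩
        · exfalso
          have hd1 : d ≠ 1 := by omega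
          have h2 := hall d.minFac (Nat.minFac_prime hd1) ((Nat.minFac_dvd d).trans (dvd_mul_left d 2))
          have h3 := (Nat.minFac_prime hd1).two_le
          have h4 := Nat.minFac_dvd d
          rw [show d.minFac = 2 by omega] at h4
          omega
      obtain ⟨e, he⟩ := hd2
      rw [sum_range_succ, sum_range_one]
      simp only [CharP.cast_eq_zero, zero_add, Nat.cast_one, one_mul]
      push_cast at hpy ⊢
      rw [hy, he, mul_comm 2 e, pow_mul] at hpy ⊢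
      set z := (q : ℤ) ^ e
      rcases Int.even_or_odd' z with ⟨w, hw | hw⟩
      · exfalso
        obtain ⟨c, hc⟩ := hpy
        rw [hw, show (2 * w) ^ 2 = 2 * (2 * w ^ 2) by ring] at hc
        omega
      · exact ⟨w ^ 2 + w, by rw [hw]; ring⟩
    · obtain ⟨j, hj⟩ : ∃ j, p = 2 * j + 1 := ⟨p / 2, by omega⟩
      have hs2 : (∑ i ∈ range p, i) = p * j := by
        rw [sum_range_id, hj]
        rw [show (2 * j + 1) * (2 * j + 1 - 1) = 2 * ((2 * j + 1) * j) by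
          rw [Nat.add_sub_cancel]; ring]
        exact Nat.mul_div_cancel_left _ (by norm_num)
      rw [← Nat.cast_sum, hs2, Nat.cast_mul, pow_two]
      exact mul_dvd_mul (dvd_mul_right _ _) hpy
  rw [sum_sub_distrib, sum_sub_distrib, ← sum_mul] at hsum
  simp only [sum_const, card_range, nsmul_eq_mul, mul_one] at hsum
  have hp2 : (p : ℤ) ^ 2 ∣ (p : ℤ) := by
    have h2 := dvd_sub (dvd_sub hS hsum) hrest
    rwa [show ∑ i ∈ range p, y ^ i - (∑ i ∈ range p, y ^ i - (p : ℤ) - (∑ i ∈ range p, (i : ℤ)) * (y - 1)) -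
      (∑ i ∈ range p, (i : ℤ)) * (y - 1) = (p : ℤ) by ring] at h2
  rw [← Nat.cast_pow, Int.natCast_dvd_natCast] at hp2
  have := Nat.le_of_dvd hp.pos hp2
  have := hp.two_le
  nlinarith

end CfsgLib.Char.Zsigmondy
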